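import Cfsg.Agent.H662.HT.Sym

/-!
# TEAM HT-E (S3540, S3577), A4 part 1: a vector with trivial stabiliser (helper177)
-/

set_option autoImplicit false

open scoped commutatorElement
open Finset Cfsg.Agent.H662.HT

namespace Cfsg.Agent.H177.HT

universe u v

variable {s a : ℕ} {N : Type u} {V : Type v} [Group N] [AddCommGroup V] [DistribMulAction N V]

/-- there is a central element of order `s` -/
theorem exists_omega (H : Sym s a N V) : ∃ w ∈ Subgroup.center N, orderOf w = s := by
  have hfin := H.fin
  by_contra hno
  have hab : ∀ x y : N, x * y = y * x := by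
    intro x y
    by_contra hne
    have h1 : ⁅x, y⁆ ≠ 1 := fun h => hne (commutatorElement_eq_one_iff_mul_comm.1 h)
    refine hno ⟨⁅x, y⁆, H.comm x y, ?_⟩
    have := H.hs
    exact orderOf_eq_prime_iff (hp := ⟨H.hs⟩) |>.2 ⟨H.comm_pow x y, h1⟩
  have h1 : Subgroup.center N = ⊤ := by
    rw [eq_top_iff]
    intro x _
    exact Subgroup.mem_center_iff.2 fun y => hab y x
  have h2 := H.card
  rw [h1, Subgroup.card_top] at h2
  have h3 : 0 < Nat.card N := Nat.card_pos
  have h4 : 1 < s ^ (2 * a) := Nat.one_lt_pow (by have := H.ha; omega) H.hs.one_lt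
  nlinarith

/-- `s` divides the order of the centre -/
theorem dvd_center (H : Sym s a N V) : s ∣ Nat.card (Subgroup.center N) := by
  obtain ⟨w, hw, ho⟩ := exists_omega H
  rw [← ho, ← Subgroup.orderOf_mk w hw]
  exact orderOf_dvd_natCard _

/-- a subgroup generated by a non-central element of order `s` meets the centre trivially -/
theorem zpowers_inf (H : Sym s a N V) {n : N} (h1 : n ^ s = 1) (h2 : n ∉ Subgroup.center N) :
    Subgroup.zpowers n ⊓ Subgroup.center N = ⊥ ∧ Nat.card (Subgroup.zpowers n) = s := by
  have hne : n ≠ 1 := by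
    rintro rfl
    exact h2 (Subgroup.one_mem _)
  have ho : orderOf n = s := orderOf_eq_prime_iff (hp := ⟨H.hs⟩) |>.2 ⟨h1, hne⟩
  have hc : Nat.card (Subgroup.zpowers n) = s := by rw [Nat.card_zpowers, ho]
  refine ⟨?_, hc⟩
  have hfin := H.fin
  have hd : Nat.card ↥(Subgroup.zpowers n ⊓ Subgroup.center N) ∣ s := by
    rw [← hc]
    exact Subgroup.card_dvd_of_le inf_le_left
  rcases (Nat.dvd_prime H.hs).1 hd with h | h
  · exact Subgroup.card_eq_one.1 h
  · exfalso
    have h3 : Subgroup.zpowers n ⊓ Subgroup.center N = Subgroup.zpowers n := by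
      apply Subgroup.eq_of_le_of_card_ge inf_le_left
      rw [h, hc]
    have h4 : n ∈ Subgroup.zpowers n ⊓ Subgroup.center N := by
      rw [h3]
      exact Subgroup.mem_zpowers n
    exact h2 h4.2

theorem mem_sol_bot {n : N} : n ∈ sol s (⊥ : Subgroup N) ↔ n ^ s = 1 := by
  constructor
  · exact fun h => h.2
  · intro h
    refine ⟨?_, h⟩
    rw [Subgroup.mem_centralizer_iff]
    intro x hx
    rw [SetLike.mem_coe, Subgroup.mem_bot] at hx
    rw [hx, one_mul, mul_one]

/-- **A4, the free vector**; `hcf` and `hce` are `Sym.card_fixp` and `Sym.card_eq` (A1). -/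
theorem free_of_lt_aux (H : Sym s a N V)
    (hcf : ∀ S : Subgroup N, S ⊓ Subgroup.center N = ⊥ → Nat.card V = Nat.card (fixp V S) ^ Nat.card S)
    (hce : ∀ S : Subgroup N, S ⊓ Subgroup.center N = ⊥ → ∃ j ≤ a, Nat.card S = s ^ j)
    {r F : ℕ} (hr : 1 ≤ r) (hF : Nat.card V = F ^ s)
    (hlt : (Nat.card (sol s (⊥ : Subgroup N)) - s) * (F - 1) <
      (s - 1) * (Nat.card V - 1) + (s ^ r - s) * Nat.card (spec s r N V)) :
    ∃ v : V, v ≠ 0 ∧ MulAction.stabilizer N v = ⊥ := by
  classical
  have hfin := H.fin
  have hfinV := H.finV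
  have : Fintype N := Fintype.ofFinite N
  have : Fintype V := Fintype.ofFinite V
  by_contra hno
  push Not at hno
  have hs1 := H.hs.one_lt
  -- the two finite sets
  let A : Finset N := univ.filter fun n => n ≠ 1
  let B : Finset V := univ.filter fun v => v ≠ 0
  have hdc := Finset.sum_card_bipartiteAbove_eq_sum_card_bipartiteBelow (s := A) (t := B)
    (fun n v => n • v = v)
  -- lower bound
  have hlow : ∀ v ∈ B, (s - 1) + (if v ∈ spec s r N V then s ^ r - s else 0) ≤
      #(A.bipartiteBelow (fun n v => n • v = v) v) := by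
    intro v hv
    have hv0 : v ≠ 0 := (Finset.mem_filter.1 hv).2
    have hcard : #(A.bipartiteBelow (fun n v => n • v = v) v) + 1 = Nat.card (MulAction.stabilizer N v) := by
      have e1 : insert 1 (A.bipartiteBelow (fun n v => n • v = v) v) =
          univ.filter fun n : N => n ∈ MulAction.stabilizer N v := by
        ext n
        simp only [A, Finset.mem_insert, Finset.mem_bipartiteBelow, Finset.mem_filter, Finset.mem_univ, true_and,
          MulAction.mem_stabilizer_iff]
        constructor
        · rintro (rfl | h)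
          · exact one_smul _ _
          · exact h.2
        · intro h
          by_cases hn : n = 1
          · exact Or.inl hn
          · exact Or.inr ⟨hn, h⟩
      rw [← Finset.card_insert_of_notMem (a := (1 : N)), e1]
      · rw [Nat.card_eq_fintype_card, Fintype.card_subtype]
      · simp [A, Finset.mem_bipartiteBelow]
    obtain ⟨j, -, hj⟩ := hce _ (H.stab_inf hv0)
    have hj0 : j ≠ 0 := by
      rintro rfl
      rw [pow_zero] at hj
      exact hno v hv0 (Subgroup.card_eq_one.1 hj)
    have h1 : s ≤ s ^ j := Nat.le_self_pow hj0 s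
    split_ifs with hsp
    · have h2 := hsp.2
      have h3 : s ≤ s ^ r := Nat.le_self_pow (by omega) s
      omega
    · omega
  -- upper bound
  have hup : ∀ n ∈ A, #(B.bipartiteAbove (fun n v => n • v = v) n) ≤
      if n ^ s = 1 ∧ n ∉ Subgroup.center N then F - 1 else 0 := by
    intro n hn
    have hn1 : n ≠ 1 := (Finset.mem_filter.1 hn).2
    split_ifs with h
    · obtain ⟨h1, h2⟩ := zpowers_inf H h.1 h.2
      have h3 := hcf _ h1
      rw [h2, hF] at h3
      have h4 : F = Nat.card (fixp V (Subgroup.zpowers n)) := Nat.pow_left_injective H.hs.ne_zero h3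
      have e1 : insert 0 (B.bipartiteAbove (fun n v => n • v = v) n) =
          univ.filter fun v : V => v ∈ fixp V (Subgroup.zpowers n) := by
        ext v
        simp only [B, Finset.mem_insert, Finset.mem_bipartiteAbove, Finset.mem_filter, Finset.mem_univ, true_and,
          mem_fixp]
        constructor
        · rintro (rfl | h)
          · exact fun g _ => smul_zero g
          · intro g hg
            have : Subgroup.zpowers n ≤ MulAction.stabilizer N v := by
              rw [Subgroup.zpowers_le]
              exact h.2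
            exact this hg
        · intro h
          by_cases hv : v = 0
          · exact Or.inl hv
          · exact Or.inr ⟨hv, h n (Subgroup.mem_zpowers n)⟩
      have h5 : #(B.bipartiteAbove (fun n v => n • v = v) n) + 1 = F := by
        rw [h4, ← Finset.card_insert_of_notMem (a := (0 : V)), e1]
        · rw [Nat.card_eq_fintype_card, Fintype.card_subtype]
        · simp [B, Finset.mem_bipartiteAbove]
      omega
    · rw [Nat.le_zero, Finset.card_eq_zero, Finset.eq_empty_iff_forall_notMem]
      intro v hv
      rw [Finset.mem_bipartiteAbove] at hv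
      have hv0 : v ≠ 0 := (Finset.mem_filter.1 hv.1).2
      apply h
      have hmem : n ∈ MulAction.stabilizer N v := hv.2
      refine ⟨H.expS (H.stab_inf hv0) hmem, fun hc => hv0 (H.semi n hc hn1 v hv.2)⟩
  have hsum1 := Finset.sum_le_sum hup
  have hsum2 := Finset.sum_le_sum hlow
  rw [hdc] at hsum1
  have hmain := hsum2.trans hsum1
  rw [Finset.sum_add_distrib, Finset.sum_const, ← Finset.sum_filter, ← Finset.sum_filter, Finset.sum_const,
    Finset.sum_const, smul_eq_mul, smul_eq_mul, smul_eq_mul] at hmain
  -- the cardinalities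
  have c1 : #B = Nat.card V - 1 := by
    have : #B + 1 = Nat.card V := by
      rw [← Finset.card_insert_of_notMem (a := (0 : V)) (s := B) (by simp [B]), Nat.card_eq_fintype_card,
        ← Finset.card_univ]
      congr 1
      ext v
      by_cases hv : v = 0 <;> simp [B, hv]
    omega
  have c2 : #(B.filter fun v => v ∈ spec s r N V) = Nat.card (spec s r N V) := by
    rw [Nat.card_eq_fintype_card, ← Set.toFinset_card]
    congr 1
    ext v
    simp only [B, Finset.mem_filter, Finset.mem_univ, true_and, Set.mem_toFinset, and_iff_right_iff_imp]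
    exact fun h => h.1
  have c3 : #(A.filter fun n => n ^ s = 1 ∧ n ∉ Subgroup.center N) + s ≤ Nat.card (sol s (⊥ : Subgroup N)) := by
    obtain ⟨w, hw, ho⟩ := exists_omega H
    have e1 : Nat.card (sol s (⊥ : Subgroup N)) = #(univ.filter fun n : N => n ^ s = 1) := by
      rw [Nat.card_eq_fintype_card, ← Set.toFinset_card]
      congr 1
      ext n
      rw [Set.mem_toFinset, mem_sol_bot]
      simp
    have e2 : #(univ.filter fun n : N => n ∈ Subgroup.zpowers w) = s := by
      rw [← Fintype.card_subtype, ← Nat.card_eq_fintype_card]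
      exact (Nat.card_zpowers w).trans ho
    have e3 : #(A.filter fun n => n ^ s = 1 ∧ n ∉ Subgroup.center N) +
        #(univ.filter fun n : N => n ∈ Subgroup.zpowers w) ≤ #(univ.filter fun n : N => n ^ s = 1) := by
      rw [← Finset.card_union_of_disjoint]
      · refine Finset.card_le_card fun n hn => ?_
        rw [Finset.mem_union] at hn
        simp only [A, Finset.mem_filter, Finset.mem_univ, true_and] at hn ⊢
        rcases hn with hn | hn
        · exact hn.2.1
        · have := orderOf_dvd_of_mem_zpowers hn
          rw [ho] at this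
          exact orderOf_dvd_iff_pow_eq_one.1 this
      · rw [Finset.disjoint_left]
        intro n hn hn'
        simp only [A, Finset.mem_filter, Finset.mem_univ, true_and] at hn hn'
        exact hn.2.2 ((Subgroup.zpowers_le.2 hw) hn')
    rw [e1]
    omega
  rw [c1, c2] at hmain
  have hfinal : #(A.filter fun n => n ^ s = 1 ∧ n ∉ Subgroup.center N) * (F - 1) ≤
      (Nat.card (sol s (⊥ : Subgroup N)) - s) * (F - 1) := Nat.mul_le_mul_right _ (by omega)
  have e3 := Nat.mul_comm (Nat.card V - 1) (s - 1)
  have e4 := Nat.mul_comm (Nat.card (spec s r N V)) (s ^ r - s)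
  rw [e3, e4] at hmain
  omega

end Cfsg.Agent.H177.HT
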