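import Cfsg.Agent.H177.HT.Free

/-!
# TEAM HT-E (S3540, S3577), A4 part 2: the numbers of a full group of symplectic type (helper177)
-/

set_option autoImplicit false

open scoped commutatorElement
open Finset Cfsg.Agent.H662.HT

namespace Cfsg.Agent.H177.HT

universe u v

variable {s a : ℕ} {N : Type u} {V : Type v} [Group N] [AddCommGroup V] [DistribMulAction N V]

/-- the subgroup `S <n>` for `n` centralising `S` -/
def adj (S : Subgroup N) (n : N) (hn : ∀ x ∈ S, x * n = n * x) : Subgroup N where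
  carrier := {y | ∃ x ∈ S, ∃ k : ℤ, y = x * n ^ k}
  one_mem' := ⟨1, S.one_mem, 0, by simp⟩
  mul_mem' := by
    rintro _ _ ⟨x, hx, k, rfl⟩ ⟨y, hy, l, rfl⟩
    refine ⟨x * y, S.mul_mem hx hy, k + l, ?_⟩
    have h1 : Commute y (n ^ k) := (show Commute y n from hn y hy).zpow_right k
    rw [zpow_add, mul_assoc x, ← mul_assoc (n ^ k), ← h1.eq, mul_assoc, mul_assoc]
  inv_mem' := by
    rintro _ ⟨x, hx, k, rfl⟩
    refine ⟨x⁻¹, S.inv_mem hx, -k, ?_⟩
    have h1 : Commute x (n ^ k) := (show Commute x n from hn x hx).zpow_right k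
    rw [h1.eq, mul_inv_rev, zpow_neg]

/-- elements of `S Z` in the set of solutions -/
theorem sol_le (H : Sym s a N V) {S : Subgroup N} (hS : S ⊓ Subgroup.center N = ⊥)
    (h : ∀ n ∈ sol s S, ∃ x ∈ S, ∃ c ∈ Subgroup.center N, n = x * c) :
    Nat.card (sol s S) ≤ Nat.card S * s := by
  classical
  have hfin := H.fin
  have hcyc := H.cyc
  have : Fintype N := Fintype.ofFinite N
  let O : Finset (Subgroup.center N) := univ.filter fun c => c ^ s = 1
  have hO : #O ≤ s := IsCyclic.card_pow_eq_one_le H.hs.pos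
  have h' : ∀ n : sol s S, ∃ p : S × O, (n : N) = (p.1 : N) * ((p.2 : Subgroup.center N) : N) := by
    rintro ⟨n, hn⟩
    obtain ⟨x, hx, c, hc, e⟩ := h n hn
    have h1 : c ^ s = 1 := by
      have h2 := hn.2
      have h3 : Commute x c := (Subgroup.mem_center_iff.1 hc x)
      rw [e, h3.mul_pow, H.expS hS hx, one_mul] at h2
      exact h2
    refine ⟨⟨⟨x, hx⟩, ⟨⟨c, hc⟩, ?_⟩⟩, e⟩
    rw [Finset.mem_filter]
    exact ⟨Finset.mem_univ _, Subtype.ext h1⟩
  choose p hp using h'
  have hinj : Function.Injective p := by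
    intro m n hmn
    apply Subtype.ext
    rw [hp m, hp n, hmn]
  have h1 := Nat.card_le_card_of_injective p hinj
  rw [Nat.card_prod, Nat.card_eq_finsetCard] at h1
  exact h1.trans (Nat.mul_le_mul_left _ hO)

/-- a subgroup of order `s ^ a` meeting the centre trivially -/
theorem exists_max (H : Sym s a N V)
    (hce : ∀ S : Subgroup N, S ⊓ Subgroup.center N = ⊥ → ∃ j ≤ a, Nat.card S = s ^ j)
    (hsf : ∀ S : Subgroup N, S ⊓ Subgroup.center N = ⊥ → Nat.card (sol s S) * Nat.card S = s ^ (2 * a + 1)) :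
    ∃ S : Subgroup N, S ⊓ Subgroup.center N = ⊥ ∧ Nat.card S = s ^ a := by
  classical
  have hfin := H.fin
  obtain ⟨S, hS, hmax⟩ := Set.exists_max_image {S : Subgroup N | S ⊓ Subgroup.center N = ⊥}
    (fun S => Nat.card S) (Set.toFinite _) ⟨⊥, bot_inf_eq _⟩
  have hS' : S ⊓ Subgroup.center N = ⊥ := hS
  refine ⟨S, hS', ?_⟩
  obtain ⟨j, hj, hc⟩ := hce S hS'
  rcases Nat.eq_or_lt_of_le hj with rfl | hlt
  · exact hc
  exfalso
  have hsp := H.hs.pos
  have h1 : Nat.card (sol s S) = s ^ (2 * a + 1 - j) := by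
    have h2 := hsf S hS'
    rw [hc] at h2
    have h3 : s ^ (2 * a + 1) = s ^ (2 * a + 1 - j) * s ^ j := by
      rw [← pow_add]
      congr 1
      omega
    rw [h3] at h2
    exact Nat.eq_of_mul_eq_mul_right (pow_pos hsp j) h2
  have h2 : ∃ n ∈ sol s S, ∀ x ∈ S, ∀ c ∈ Subgroup.center N, n ≠ x * c := by
    by_contra hno
    push Not at hno
    have h3 := sol_le H hS' hno
    rw [h1, hc, ← pow_succ] at h3
    have h4 := (Nat.pow_le_pow_iff_right H.hs.one_lt).1 h3
    omega
  obtain ⟨n, hn, hnot⟩ := h2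
  have hcomm : ∀ x ∈ S, x * n = n * x := fun x hx => (Subgroup.mem_centralizer_iff.1 hn.1 x hx)
  have hnS : n ∉ S := fun h => hnot n h 1 (Subgroup.one_mem _) (mul_one n).symm
  let T := adj S n hcomm
  have hST : S ≤ T := fun x hx => ⟨x, hx, 0, by simp⟩
  have hnT : n ∈ T := ⟨1, S.one_mem, 1, by simp⟩
  have hT : T ⊓ Subgroup.center N = ⊥ := by
    rw [eq_bot_iff]
    rintro y ⟨⟨x, hx, k, rfl⟩, hy⟩
    have hns : n ^ (s : ℤ) = 1 := by rw [zpow_natCast]; exact hn.2
    by_cases hk : (s : ℤ) ∣ k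
    · obtain ⟨m, rfl⟩ := hk
      rw [zpow_mul, hns, one_zpow, mul_one] at hy ⊢
      have : x ∈ S ⊓ Subgroup.center N := ⟨hx, hy⟩
      rwa [hS'] at this
    · exfalso
      have hcop : IsCoprime k (s : ℤ) :=
        ((Prime.coprime_iff_not_dvd (Nat.prime_iff_prime_int.1 H.hs)).2 hk).symm
      obtain ⟨u, v, huv⟩ := hcop
      have e1 : n = (x⁻¹) ^ u * (x * n ^ k) ^ u := by
        have c1 : Commute x (n ^ k) := (show Commute x n from hcomm x hx).zpow_right k
        rw [c1.mul_zpow, inv_zpow, ← mul_assoc, inv_mul_cancel, one_mul, ← zpow_mul]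
        calc n = n ^ (1 : ℤ) := (zpow_one n).symm
          _ = n ^ (u * k + v * s) := by rw [huv]
          _ = n ^ (k * u) := by
            rw [zpow_add, mul_comm v, zpow_mul n (s : ℤ), hns, one_zpow, mul_one, mul_comm u]
      exact hnot _ (S.zpow_mem (S.inv_mem hx) u) _ (Subgroup.zpow_mem _ hy u) e1
  have h3 : Nat.card S < Nat.card T := by
    rcases lt_or_eq_of_le (Subgroup.card_le_of_le hST) with h | h
    · exact h
    · exfalso
      have h4 : S = T := Subgroup.eq_of_le_of_card_ge hST h.ge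
      rw [← h4] at hnT
      exact hnS hnT
  exact absurd (hmax T hT) (not_le.2 h3)

/-- the centre acts semiregularly on the non-zero fixed vectors of `S` -/
theorem center_dvd (H : Sym s a N V) (S : Subgroup N) :
    Nat.card (Subgroup.center N) ∣ Nat.card (fixp V S) - 1 := by
  classical
  have hfin := H.fin
  have hfinV := H.finV
  let X := {v : V // v ∈ fixp V S ∧ v ≠ 0}
  let act : MulAction (Subgroup.center N) X :=
    { smul := fun c v => ⟨(c : N) • v.1, fun g hg => by
          rw [← mul_smul, Subgroup.mem_center_iff.1 c.2 g, mul_smul, v.2.1 g hg],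
        fun h => v.2.2 ((smul_eq_zero_iff_eq _).1 h)⟩
      one_smul := fun v => Subtype.ext (one_smul N v.1)
      mul_smul := fun c d v => Subtype.ext (mul_smul (c : N) (d : N) v.1) }
  have hfree : ∀ v : X, MulAction.stabilizer (Subgroup.center N) v = ⊥ := by
    intro v
    rw [eq_bot_iff]
    intro c hc
    rw [Subgroup.mem_bot]
    by_contra hne
    have h1 : (c : N) • v.1 = v.1 := congrArg Subtype.val hc
    exact v.2.2 (H.semi c c.2 (fun h => hne (Subtype.ext h)) v.1 h1)
  have e := MulAction.selfEquivSigmaOrbitsQuotientStabilizer (Subgroup.center N) X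
  have : Fintype (Quotient (MulAction.orbitRel (Subgroup.center N) X)) := Fintype.ofFinite _
  have h1 : Nat.card X = Nat.card (Subgroup.center N) *
      Fintype.card (Quotient (MulAction.orbitRel (Subgroup.center N) X)) := by
    rw [Nat.card_congr e, Nat.card_sigma]
    have : ∀ w : Quotient (MulAction.orbitRel (Subgroup.center N) X),
        Nat.card (↥(Subgroup.center N) ⧸ MulAction.stabilizer (↥(Subgroup.center N)) w.out) =
          Nat.card (Subgroup.center N) := by
      intro w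
      rw [hfree]
      exact Nat.card_congr (QuotientGroup.quotientBot (G := Subgroup.center N)).toEquiv
    rw [Finset.sum_congr rfl fun w _ => this w, Finset.sum_const, smul_eq_mul, Finset.card_univ, mul_comm]
  have h2 : Nat.card X = Nat.card (fixp V S) - 1 := by
    have : Fintype V := Fintype.ofFinite V
    have e1 : Nat.card X = #(univ.filter fun v : V => v ∈ fixp V S ∧ v ≠ 0) := by
      rw [Nat.card_eq_fintype_card, Fintype.card_subtype]
    have e2 : Nat.card (fixp V S) = #(univ.filter fun v : V => v ∈ fixp V S) := by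
      rw [Nat.card_eq_fintype_card, Fintype.card_subtype]
    have e3 : insert 0 (univ.filter fun v : V => v ∈ fixp V S ∧ v ≠ 0) =
        univ.filter fun v : V => v ∈ fixp V S := by
      ext v
      simp only [Finset.mem_insert, Finset.mem_filter, Finset.mem_univ, true_and]
      constructor
      · rintro (rfl | h)
        · exact (fixp V S).zero_mem
        · exact h.1
      · intro h
        by_cases hv : v = 0
        · exact Or.inl hv
        · exact Or.inr ⟨h, hv⟩
    rw [e1, e2, ← e3, Finset.card_insert_of_notMem (by simp)]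
    rfl
  exact ⟨_, h2 ▸ h1⟩

/-- the product formula -/
theorem prod_formula {s a : ℕ} (hs : 1 ≤ s) :
    ∏ j ∈ range a, (s ^ (2 * a - j + 1) - s ^ (j + 1)) =
      (∏ j ∈ range a, (s ^ a - s ^ j)) * (s ^ a * ∏ i ∈ range a, (s ^ (i + 1) + 1)) := by
  have h1 : ∀ j ∈ range a, s ^ (2 * a - j + 1) - s ^ (j + 1) = (s ^ a - s ^ j) * (s * (s ^ (a - j) + 1)) := by
    intro j hj
    have hj' := Finset.mem_range.1 hj
    have e1 : s ^ (2 * a - j + 1) = s * (s ^ j * (s ^ (a - j) * s ^ (a - j))) := by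
      rw [← pow_add, ← pow_add, ← pow_succ']
      congr 1
      omega
    have e2 : s ^ a = s ^ j * s ^ (a - j) := by
      rw [← pow_add]
      congr 1
      omega
    have e3 : 1 ≤ s ^ (a - j) := Nat.one_le_pow _ _ hs
    rw [e1, e2, pow_succ']
    zify
    rw [Nat.cast_sub, Nat.cast_sub]
    · push_cast
      ring
    · exact Nat.le_mul_of_pos_right _ (by omega)
    · exact Nat.mul_le_mul_left _ (Nat.le_mul_of_pos_right _ (by positivity))
  rw [Finset.prod_congr rfl h1, Finset.prod_mul_distrib, Finset.prod_mul_distrib, Finset.prod_const,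
    Finset.card_range]
  congr 2
  rw [← Finset.prod_range_reflect (fun i => s ^ (i + 1) + 1)]
  refine Finset.prod_congr rfl fun j hj => ?_
  have hj' := Finset.mem_range.1 hj
  have : a - 1 - j + 1 = a - j := by omega
  rw [this]

/-- the inequality for the free vector -/
theorem ineq {s a Q : ℕ} (hs : 2 ≤ s) (ha : 1 ≤ a) (hQ : s + 1 ≤ Q) (big : 3 ≤ s ∨ 2 ≤ a) :
    (s ^ (2 * a + 1) - s) * (Q ^ (s ^ (a - 1)) - 1) <
      (s - 1) * ((Q ^ (s ^ (a - 1))) ^ s - 1) +
        (s ^ a - s) * (s ^ a * (∏ i ∈ range a, (s ^ (i + 1) + 1)) * (Q - 1)) := by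
  -- a sufficient condition
  have key : ∀ F K : ℕ, 2 ≤ F → K < F + 1 → K * (F - 1) < F ^ 2 - 1 := by
    intro F K hF hK
    obtain ⟨G, rfl⟩ : ∃ G, F = G + 1 := ⟨F - 1, by omega⟩
    have e1 : (G + 1) ^ 2 - 1 = G * (G + 2) := by
      have : (G + 1) ^ 2 = G * (G + 2) + 1 := by ring
      omega
    rw [e1, Nat.add_sub_cancel, mul_comm]
    exact Nat.mul_lt_mul_of_pos_left (by omega) (by omega)
  have key3 : ∀ F K : ℕ, 2 ≤ F → 3 ≤ s → K < F ^ 2 + F + 1 → K * (F - 1) < F ^ s - 1 := by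
    intro F K hF hs3 hK
    obtain ⟨G, rfl⟩ : ∃ G, F = G + 1 := ⟨F - 1, by omega⟩
    have e1 : (G + 1) ^ 3 = G * ((G + 1) ^ 2 + (G + 1) + 1) + 1 := by ring
    have e2 : (G + 1) ^ 3 ≤ (G + 1) ^ s := Nat.pow_le_pow_right (by omega) hs3
    have e3 : K * G < G * ((G + 1) ^ 2 + (G + 1) + 1) := by
      rw [mul_comm]
      exact Nat.mul_lt_mul_of_pos_left hK (by omega)
    rw [Nat.add_sub_cancel]
    omega
  rcases Nat.lt_or_ge 2 s with h3 | h2
  · -- `s ≥ 3`
    refine lt_of_lt_of_le ?_ (Nat.le_add_right _ _)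
    rcases Nat.eq_or_lt_of_le ha with rfl | ha2
    · have e1 : s ^ (2 * 1 + 1) - s = (s - 1) * (s * (s + 1)) := by
        obtain ⟨t, rfl⟩ : ∃ t, s = t + 1 := ⟨s - 1, by omega⟩
        have : (t + 1) ^ (2 * 1 + 1) = t * ((t + 1) * (t + 1 + 1)) + (t + 1) := by ring
        rw [this, Nat.add_sub_cancel, Nat.add_sub_cancel]
      rw [e1, Nat.sub_self, pow_zero, pow_one, mul_assoc]
      refine Nat.mul_lt_mul_of_pos_left (key3 Q _ (by omega) (by omega) ?_) (by omega)
      nlinarith
    · have hF : s ^ (2 * a + 1) ≤ (Q ^ (s ^ (a - 1))) ^ 2 := by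
        rw [← pow_mul]
        calc s ^ (2 * a + 1) ≤ s ^ (s ^ (a - 1) * 2) := by
              refine Nat.pow_le_pow_right (by omega) ?_
              have h5 : ∀ b, 1 ≤ b → b + 2 ≤ 3 ^ b := by
                intro b hb
                induction b, hb using Nat.le_induction with
                | base => norm_num
                | succ b hb ih => rw [pow_succ]; omega
              have h6 := h5 (a - 1) (by omega)
              have h7 : 3 ^ (a - 1) ≤ s ^ (a - 1) := Nat.pow_le_pow_left (by omega) _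
              omega
          _ ≤ Q ^ (s ^ (a - 1) * 2) := Nat.pow_le_pow_left (by omega) _
      have hF2 : 2 ≤ Q ^ (s ^ (a - 1)) := by
        calc 2 ≤ Q := by omega
          _ ≤ Q ^ (s ^ (a - 1)) := Nat.le_self_pow (by positivity) Q
      have h8 := key3 (Q ^ (s ^ (a - 1))) (s ^ (2 * a + 1) - s) hF2 (by omega) (by omega)
      refine lt_of_lt_of_le h8 ?_
      exact Nat.le_mul_of_pos_left _ (by omega)
  · -- `s = 2`
    obtain rfl : s = 2 := by omega
    have ha2 : 2 ≤ a := by omega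
    have hc : a = 2 ∨ a = 3 ∨ 4 ≤ a := by omega
    rcases hc with rfl | rfl | ha4
    · obtain ⟨R, rfl⟩ : ∃ R, Q = R + 3 := ⟨Q - 3, by omega⟩
      have e1 : ∏ i ∈ range 2, (2 ^ (i + 1) + 1) = 15 := by decide
      rw [e1]
      have e2 : (R + 3) ^ 2 ^ (2 - 1) = (R + 3) ^ 2 := by norm_num
      rw [e2]
      have e3 : (R + 3) ^ 2 - 1 = R ^ 2 + 6 * R + 8 := by
        have : (R + 3) ^ 2 = R ^ 2 + 6 * R + 8 + 1 := by ring
        omega
      have e4 : ((R + 3) ^ 2) ^ 2 - 1 = R ^ 4 + 12 * R ^ 3 + 54 * R ^ 2 + 108 * R + 80 := by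
        have : ((R + 3) ^ 2) ^ 2 = R ^ 4 + 12 * R ^ 3 + 54 * R ^ 2 + 108 * R + 80 + 1 := by ring
        omega
      have e5 : R + 3 - 1 = R + 2 := by omega
      rw [e3, e4, e5]
      norm_num
      nlinarith [Nat.zero_le (R ^ 4), Nat.zero_le (R ^ 3), Nat.zero_le (R ^ 2)]
    · have e1 : ∏ i ∈ range 3, (2 ^ (i + 1) + 1) = 135 := by decide
      rw [e1]
      rcases Nat.eq_or_lt_of_le hQ with h | h
      · subst h
        norm_num
      · refine lt_of_lt_of_le ?_ (Nat.le_add_right _ _)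
        have e2 : Q ^ 2 ^ (3 - 1) = Q ^ 4 := by norm_num
        rw [e2]
        have e3 : 4 ^ 4 ≤ Q ^ 4 := Nat.pow_le_pow_left (by omega) 4
        have h8 := key (Q ^ 4) (2 ^ (2 * 3 + 1) - 2) (by omega) (by omega)
        omega
    · refine lt_of_lt_of_le ?_ (Nat.le_add_right _ _)
      have h5 : ∀ b, 4 ≤ b → 2 ^ (2 * b + 1) ≤ 3 ^ (2 ^ (b - 1)) := by
        intro b hb
        induction b, hb using Nat.le_induction with
        | base => norm_num
        | succ b hb ih =>
          have e1 : 2 ^ (b + 1 - 1) = 2 ^ (b - 1) * 2 := by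
            rw [← pow_succ]
            congr 1
            omega
          rw [e1, pow_mul]
          calc 2 ^ (2 * (b + 1) + 1) ≤ 2 ^ ((2 * b + 1) * 2) := Nat.pow_le_pow_right (by omega) (by omega)
            _ = (2 ^ (2 * b + 1)) ^ 2 := by rw [pow_mul]
            _ ≤ _ := Nat.pow_le_pow_left ih 2
      have h6 : 3 ^ (2 ^ (a - 1)) ≤ Q ^ (2 ^ (a - 1)) := Nat.pow_le_pow_left (by omega) _
      have h7 := h5 a ha4
      have h9 : 2 ^ 1 ≤ 2 ^ (2 * a + 1) := Nat.pow_le_pow_right (by omega) (by omega)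
      have h8 := key (Q ^ (2 ^ (a - 1))) (2 ^ (2 * a + 1) - 2) (by omega) (by omega)
      omega

/-- **A4, the numbers**; `hcf`, `hce`, `hsf`, `hsp` are `Sym.card_fixp`, `Sym.card_eq`, `Sym.sol_full`, `Sym.card_spec`. -/
theorem numbers_full_aux (H : Sym s a N V)
    (hcf : ∀ S : Subgroup N, S ⊓ Subgroup.center N = ⊥ → Nat.card V = Nat.card (fixp V S) ^ Nat.card S)
    (hce : ∀ S : Subgroup N, S ⊓ Subgroup.center N = ⊥ → ∃ j ≤ a, Nat.card S = s ^ j)
    (hsf : ∀ S : Subgroup N, S ⊓ Subgroup.center N = ⊥ → Nat.card (sol s S) * Nat.card S = s ^ (2 * a + 1))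
    (hsp : ∀ (r Q : ℕ) (f : ℕ → ℕ),
      (∀ S : Subgroup N, S ⊓ Subgroup.center N = ⊥ → ∀ j ≤ r, Nat.card S = s ^ j → Nat.card (sol s S) = f j) →
      f r = s ^ (r + 1) →
      (∀ S : Subgroup N, S ⊓ Subgroup.center N = ⊥ → Nat.card S = s ^ r → Nat.card (fixp V S) = Q) →
      Nat.card (spec s r N V) * ∏ j ∈ range r, (s ^ r - s ^ j) = (Q - 1) * ∏ j ∈ range r, (f j - s ^ (j + 1)))
    (big : 3 ≤ s ∨ 2 ≤ a) :
    ∃ Q : ℕ, 1 < Q ∧ Nat.card V = Q ^ (s ^ a) ∧ Nat.card (Subgroup.center N) ∣ Q - 1 ∧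
      Nat.card (spec s a N V) = s ^ a * (∏ i ∈ range a, (s ^ (i + 1) + 1)) * (Q - 1) ∧
      ∃ v : V, v ≠ 0 ∧ MulAction.stabilizer N v = ⊥ := by
  have hfin := H.fin
  have hfinV := H.finV
  have hs0 := H.hs.pos
  have hs1 := H.hs.one_lt
  have ha := H.ha
  obtain ⟨S, hS, hSc⟩ := exists_max H hce hsf
  have hV := hcf S hS
  rw [hSc] at hV
  set Q := Nat.card (fixp V S) with hQdef
  have hV1 : 1 < Nat.card V := by
    have := H.nt
    exact Finite.one_lt_card
  have hQ1 : 1 < Q := by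
    by_contra h
    have h1 : Q = 0 ∨ Q = 1 := by omega
    rcases h1 with h1 | h1
    · rw [h1, zero_pow (by positivity)] at hV
      omega
    · rw [h1, one_pow] at hV
      omega
  have hz := center_dvd (V := V) H S
  rw [← hQdef] at hz
  have hsQ : s ∣ Q - 1 := (dvd_center H).trans hz
  have hQs : s + 1 ≤ Q := by
    have := Nat.le_of_dvd (by omega) hsQ
    omega
  have hspec := hsp a Q (fun j => s ^ (2 * a - j + 1)) (by
      intro T hT j hj hTc
      have h1 := hsf T hT
      rw [hTc] at h1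
      have h2 : s ^ (2 * a + 1) = s ^ (2 * a - j + 1) * s ^ j := by
        rw [← pow_add]
        congr 1
        omega
      rw [h2] at h1
      exact Nat.eq_of_mul_eq_mul_right (pow_pos hs0 j) h1) (by
      show s ^ (2 * a - a + 1) = s ^ (a + 1)
      congr 1
      omega) (by
      intro T hT hTc
      have h1 := hcf T hT
      rw [hTc, hV] at h1
      exact (Nat.pow_left_injective (by positivity) h1).symm)
  have hP : 0 < ∏ j ∈ range a, (s ^ a - s ^ j) := by
    refine Finset.prod_pos fun j hj => ?_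
    have := Nat.pow_lt_pow_right hs1 (Finset.mem_range.1 hj)
    omega
  have hspec' : Nat.card (spec s a N V) = s ^ a * (∏ i ∈ range a, (s ^ (i + 1) + 1)) * (Q - 1) := by
    have h1 : Nat.card (spec s a N V) * ∏ j ∈ range a, (s ^ a - s ^ j) =
        (Q - 1) * ∏ j ∈ range a, (s ^ (2 * a - j + 1) - s ^ (j + 1)) := hspec
    rw [prod_formula hs0] at h1
    refine Nat.eq_of_mul_eq_mul_right hP ?_
    rw [h1]
    ring
  refine ⟨Q, hQ1, hV, hz, hspec', ?_⟩
  refine free_of_lt_aux H hcf hce (r := a) (F := Q ^ (s ^ (a - 1))) ha ?_ ?_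
  · rw [hV, ← pow_mul, ← pow_succ]
    congr 2
    omega
  · have h1 := hsf ⊥ (bot_inf_eq _)
    rw [Subgroup.card_bot, mul_one] at h1
    have h2 : Nat.card V = (Q ^ (s ^ (a - 1))) ^ s := by
      rw [hV, ← pow_mul, ← pow_succ]
      congr 2
      omega
    rw [h1, hspec', h2]
    exact ineq hs1 ha hQs big

end Cfsg.Agent.H177.HT
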