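import Cfsg.Agent.H177.HT.Full
import Cfsg.Agent.H813.HT.A1
import Cfsg.Agent.H990.HT.Sol
import Cfsg.Agent.H486.HT.CardSpec

/-!
# TEAM HT-E (S3540, S3577), A4: `Sym_free_of_lt`, `Sym_numbers_full` (helper177)
-/

set_option autoImplicit false

open Finset Cfsg.Agent.H662.HT

namespace Cfsg.Agent.H177.HT

universe u v

variable {s a : ℕ} {N : Type u} {V : Type v} [Group N] [AddCommGroup V] [DistribMulAction N V]

/-- A4 -/
theorem Sym_free_of_lt (H : Sym s a N V) {r F : ℕ} (hr : 1 ≤ r) (hF : Nat.card V = F ^ s)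
    (hlt : (Nat.card (sol s (⊥ : Subgroup N)) - s) * (F - 1) <
      (s - 1) * (Nat.card V - 1) + (s ^ r - s) * Nat.card (spec s r N V)) :
    ∃ v : V, v ≠ 0 ∧ MulAction.stabilizer N v = ⊥ :=
  free_of_lt_aux H (fun _ hS => Cfsg.Agent.H813.HT.Sym_card_fixp H hS)
    (fun _ hS => Cfsg.Agent.H813.HT.Sym_card_eq H hS) hr hF hlt

/-- A4 -/
theorem Sym_numbers_full (H : Sym s a N V) (hF : Full s N) (big : 3 ≤ s ∨ 2 ≤ a) :
    ∃ Q : ℕ, 1 < Q ∧ Nat.card V = Q ^ (s ^ a) ∧ Nat.card (Subgroup.center N) ∣ Q - 1 ∧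
      Nat.card (spec s a N V) = s ^ a * (∏ i ∈ range a, (s ^ (i + 1) + 1)) * (Q - 1) ∧
      ∃ v : V, v ≠ 0 ∧ MulAction.stabilizer N v = ⊥ :=
  numbers_full_aux H (fun _ hS => Cfsg.Agent.H813.HT.Sym_card_fixp H hS)
    (fun _ hS => Cfsg.Agent.H813.HT.Sym_card_eq H hS)
    (fun _ hS => Cfsg.Agent.H990.HT.sol_full_of H hF (Cfsg.Agent.H813.HT.Sym_card_cen H hS))
    (fun _ _ _ h1 h2 h3 => Cfsg.Agent.H486.HT.card_spec H h1 h2 h3) big

end Cfsg.Agent.H177.HT
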